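import Cfsg.Agent.H477.HC.Arith_m3
import Cfsg.Agent.H477.HC.Levi
import Cfsg.Agent.H477.HC.RowSp
import Cfsg.Agent.H113.PSL.Facts
import Cfsg.Agent.S0280
import Cfsg.Agent.Prune
set_option linter.all false

section
prune_inst 0x7fbffffcfbabf7ffffff7e3ffed8fffc3b83dfffefdff943ffeeebff8fdf131e09edabad0de078fe0ef7623410b97843fbfffeffe26ffc7ffffdfff45ffbee5ff7ffbd0d11d7ac340f3c6fff93f0778e7f3fffffffffffffffffffffffffffbeffbfffffffff

-- part: H345/CusU
section
prune_inst 0x4000010404080000000000000000000000000000000408000010002000a08004000400001000004100000908008000000001000800000000000003000000200000002060000000208080000000004000000000000000000000000000000000000000000000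
set_option linter.all false
open scoped Cfsg.Agent.FastGrp

/-!
# Cuspidal data for the unitary groups

`exists_cusU` : for `|K| = q ^ 2` and `k ≥ 2` there is a cuspidal irreducible character `c` of `GL_k(K)`
which is not fixed by the twisted contragredient `A ↦ σ(A)⁻ᵀ`, with the norm one scalars in the kernel.
-/

set_option autoImplicit false

open scoped ComplexConjugate
open Cfsg

namespace Cfsg.Agent.H345.CusU

open Cfsg.Agent.OddOrderCharacters.Clifford Cfsg.Agent.Characters MulAction Module Cfsg.Agent.H53.HC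
open Cfsg.Agent.H139.Cusp Cfsg.Agent.H477.HC

universe u

theorem size_reg {q k i : ℕ} (hq : 2 ≤ q) (hi : 0 < i) (hik : i < k) :
    0 < (q + 1) * ((q ^ 2) ^ i - 1) ∧ (q + 1) * ((q ^ 2) ^ i - 1) < (q ^ 2) ^ k - 1 := by
  obtain ⟨j, rfl⟩ : ∃ j, k = i + 1 + j := ⟨k - i - 1, by omega⟩
  set a := (q ^ 2) ^ i with ha
  have ha4 : 4 ≤ a := by
    calc 4 ≤ q ^ 2 := by nlinarith only [hq]
      _ = (q ^ 2) ^ 1 := (pow_one _).symm
      _ ≤ a := Nat.pow_le_pow_right (by positivity) hi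
  have hk : (q ^ 2) ^ (i + 1 + j) = a * q ^ 2 * (q ^ 2) ^ j := by
    rw [pow_add, pow_succ]
  have hj : 1 ≤ (q ^ 2) ^ j := Nat.one_le_pow _ _ (by positivity)
  have h1 : a * q ^ 2 ≤ (q ^ 2) ^ (i + 1 + j) := by
    rw [hk]; exact Nat.le_mul_of_pos_right _ hj
  constructor
  · exact Nat.mul_pos (by omega) (by omega)
  · have h2 : (q + 1) * (a - 1) + (q + 1) = (q + 1) * a := by
      rw [← Nat.mul_succ]; congr 1; omega
    have h3 : q + 2 ≤ q ^ 2 := by nlinarith only [hq]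
    have h4 : (q + 2) * a ≤ a * q ^ 2 := by rw [mul_comm a]; exact Nat.mul_le_mul_right _ h3
    have h5 : (q + 2) * a = (q + 1) * a + a := by ring
    omega

theorem size_dual {q k i : ℕ} (hq : 2 ≤ q) (hk : 2 ≤ k) (hik : i < k) :
    ¬ ((q ^ 2) ^ k - 1) ∣ (q + 1) * (q ^ 2) ^ i + (q + 1) * q := by
  intro h
  have hkk : (q ^ 2) ^ k = (q ^ 2) ^ (k - 1) * q ^ 2 := by
    rw [← pow_succ]; congr 1; omega
  have hb : q ^ 2 ≤ (q ^ 2) ^ (k - 1) := by
    calc q ^ 2 = (q ^ 2) ^ 1 := (pow_one _).symm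
      _ ≤ _ := Nat.pow_le_pow_right (by positivity) (by omega)
  have hq2 : q * 2 ≤ q ^ 2 := by nlinarith only [hq]
  set b := (q ^ 2) ^ (k - 1) with hbdef
  rcases Nat.eq_zero_or_pos i with rfl | hi
  · rw [pow_zero, mul_one] at h
    have h1 := Nat.le_of_dvd (by positivity) h
    have h2 : q ^ 2 * q ^ 2 ≤ b * q ^ 2 := Nat.mul_le_mul_right _ hb
    have h3 : 4 * q ^ 2 ≤ q ^ 2 * q ^ 2 := Nat.mul_le_mul_right _ (by linarith only [hq, hq2])
    have h4 : q + 1 + (q + 1) * q = q ^ 2 + 2 * q + 1 := by ring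
    rw [h4, hkk] at h1
    omega
  · -- remove the factor `q`
    have hco : Nat.Coprime ((q ^ 2) ^ k - 1) q := by
      have h1 : q ∣ (q ^ 2) ^ k := dvd_pow (Dvd.intro_left q (by ring)) (by omega)
      obtain ⟨c, hc⟩ := h1
      have h2 : 1 ≤ (q ^ 2) ^ k := Nat.one_le_pow _ _ (by positivity)
      rw [Nat.coprime_iff_gcd_eq_one]
      have h3 : Nat.gcd ((q ^ 2) ^ k - 1) q ∣ (q ^ 2) ^ k - 1 := Nat.gcd_dvd_left _ _
      have h4 : Nat.gcd ((q ^ 2) ^ k - 1) q ∣ (q ^ 2) ^ k := (Nat.gcd_dvd_right _ _).trans ⟨c, hc⟩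
      have h5 := (Nat.dvd_sub_iff_right (by omega) h4).1 h3
      exact Nat.dvd_one.1 h5
    obtain ⟨j, rfl⟩ : ∃ j, i = j + 1 := ⟨i - 1, by omega⟩
    have h6 : (q + 1) * (q ^ 2) ^ (j + 1) + (q + 1) * q = ((q + 1) * ((q ^ 2) ^ j * q + 1)) * q := by
      rw [pow_succ]; ring
    rw [h6] at h
    have h7 := hco.dvd_of_dvd_mul_right h
    have h8 := Nat.le_of_dvd (by positivity) h7
    have h9 : (q ^ 2) ^ j * q ^ 2 ≤ b := by
      rw [← pow_succ]; exact Nat.pow_le_pow_right (by positivity) (by omega)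
    set d := (q ^ 2) ^ j with hd
    have hd1 : 1 ≤ d := Nat.one_le_pow _ _ (by positivity)
    have h10 : (q + 1) * (d * q + 1) = d * q ^ 2 + d * q + q + 1 := by ring
    rw [h10, hkk] at h8
    have h11 : d * q ^ 2 * 4 ≤ b * q ^ 2 := by
      calc d * q ^ 2 * 4 ≤ d * q ^ 2 * q ^ 2 := Nat.mul_le_mul_left _ (by linarith only [hq, hq2])
        _ ≤ b * q ^ 2 := Nat.mul_le_mul_right _ h9
    have h12 : d * q * 2 ≤ d * q ^ 2 := by
      have : d * (q * 2) ≤ d * q ^ 2 := Nat.mul_le_mul_left _ hq2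
      linarith only [this]
    have h13 : q ≤ d * q := Nat.le_mul_of_pos_left _ hd1
    have h14 : q ^ 2 ≤ d * q ^ 2 := Nat.le_mul_of_pos_left _ hd1
    (clear * - hq h8 h11 h12 h13; omega)

variable {K : Type u} [Field K] [Finite K]

/-- the Frobenius twist of a cuspidal class function -/
theorem psi_map_pow {L : Type*} [Field L] [Finite L] [Algebra K L] (θ θ' : L →*₀ ℂ) {k q : ℕ}
    (hk : Module.finrank K L = k) (hq : Nat.card K = q ^ 2) (hθ : ∀ x, θ' x = θ (x ^ q)) (A : GL (Fin k) K) :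
    psi L θ (Matrix.GeneralLinearGroup.map (CForm.powHom hq) A) = psi L θ' A := by
  classical
  obtain ⟨p, hp⟩ := CharP.exists K
  have hpr : p.Prime := (CharP.char_is_prime_or_zero K p).resolve_right (CharP.char_ne_zero_of_finite K p)
  have : Fact p.Prime := ⟨hpr⟩
  let _ := Fintype.ofFinite K
  obtain ⟨n, -, hn⟩ := FiniteField.card K p
  rw [← Nat.card_eq_fintype_card, hq] at hn
  obtain ⟨e, -, he⟩ := (Nat.dvd_prime_pow hpr).1 (Dvd.intro_left q (by rw [← pow_two]; exact hn) : q ∣ p ^ (n : ℕ))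
  have hpL : CharP L p := charP_of_injective_algebraMap (algebraMap K L).injective p
  let σ : K ≃+* K := iterateFrobeniusEquiv K p e
  let τ : L ≃+* L := iterateFrobeniusEquiv L p e
  have hσ : ∀ x, σ x = x ^ q := fun x => by rw [he]; rfl
  have hτ : ∀ x, τ x = x ^ q := fun x => by rw [he]; rfl
  let E : (Fin k → K) ≃+ (Fin k → K) :=
    { toFun := fun v i => σ (v i)
      invFun := fun v i => σ.symm (v i)
      left_inv := fun v => funext fun i => σ.symm_apply_apply _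
      right_inv := fun v => funext fun i => σ.apply_symm_apply _
      map_add' := fun v w => funext fun i => map_add σ _ _ }
  have h1 := cusp_semilinear (V := Fin k → K) (V' := Fin k → K) σ E
    (fun c v => funext fun i => by
      show σ (c * v i) = σ c * σ (v i)
      exact map_mul σ _ _)
    (g := Matrix.toLin' (A : Matrix (Fin k) (Fin k) K))
    (g' := Matrix.toLin' ((Matrix.GeneralLinearGroup.map (CForm.powHom hq) A : GL (Fin k) K) :
      Matrix (Fin k) (Fin k) K))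
    (fun v => by
      funext i
      show ((Matrix.GeneralLinearGroup.map (CForm.powHom hq) A : GL (Fin k) K) :
        Matrix (Fin k) (Fin k) K).mulVec (E v) i = σ ((A : Matrix (Fin k) (Fin k) K).mulVec v i)
      rw [Matrix.mulVec, Matrix.mulVec, dotProduct, dotProduct, map_sum]
      refine Finset.sum_congr rfl fun j _ => ?_
      rw [map_mul]
      congr 1
      show (CForm.powHom hq) (A i j) = σ (A i j)
      rw [hσ, CForm.powHom_apply])
    (L := L) (L' := L) τ (fun c => by rw [hτ, hσ, map_pow]) (θ := θ') (θ' := θ)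
    (fun x => by rw [hτ, hθ])
    (by rw [Module.finrank_fin_fun, hk])
  exact h1

theorem exists_cusU {K : Type u} [Field K] [Finite K] {q : ℕ} (hq : Nat.card K = q ^ 2) (k : ℕ) (hk : 2 ≤ k) :
    ∃ c : GL (Fin k) K → ℂ, Cus K k (CForm.powHom hq) (fun z => z ^ (q + 1) = 1) c := by
  classical
  have hk0 : 0 < k := by omega
  have hq2 : 2 ≤ q := CForm.two_le_of_card hq
  obtain ⟨L, _, _, _, hL⟩ := exists_L K k hk0
  obtain ⟨θ, hθ⟩ := exists_theta L
  have hcardL : Nat.card Lˣ = Nat.card K ^ k - 1 := by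
    rw [Nat.card_units, Module.natCard_eq_pow_finrank (K := K), hL]
  have ha : q + 1 ≠ 0 := by omega
  have hb : (q + 1) * q ≠ 0 := Nat.mul_ne_zero ha (by omega)
  have hR : Regular K k (powTheta θ (q + 1) ha) := (regular_powTheta_iff hθ ha hL).2 (by
    intro i hi hik h
    rw [hq] at h
    obtain ⟨h1, h2⟩ := size_reg hq2 hi hik
    exact absurd (Nat.le_of_dvd h1 h) (by omega))
  refine ⟨psi L (powTheta θ (q + 1) ha), psi_isIrr _ hL hR, psi_isCusp L _, ?_, ?_, ?_⟩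
  · intro h
    have h1 : ∀ g : ((Fin k → K) →ₗ[K] (Fin k → K))ˣ,
        cusp L (powTheta θ (q + 1) ha) (g : (Fin k → K) →ₗ[K] (Fin k → K)) =
        cusp L (conjTheta (powTheta θ ((q + 1) * q) hb)) (g : (Fin k → K) →ₗ[K] (Fin k → K)) := by
      intro g
      let A : GL (Fin k) K := Matrix.GeneralLinearGroup.toLin.symm g
      have h2 := congrFun h A
      rw [Function.comp_apply, MonoidHom.comp_apply,
        psi_map_pow (powTheta θ (q + 1) ha) (powTheta θ ((q + 1) * q) hb) hL hq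
          (fun x => by rw [powTheta_apply, powTheta_apply, map_pow, ← pow_mul, mul_comm q]),
        psi_invT _ hL] at h2
      have h4 : ∀ θ₁ : L →*₀ ℂ, psi L θ₁ A = cusp L θ₁ (g : (Fin k → K) →ₗ[K] (Fin k → K)) := by
        intro θ₁
        have h5 : Matrix.GeneralLinearGroup.toLin A = g := MulEquiv.apply_symm_apply _ g
        rw [← h5]
        rfl
      rw [h4, h4, cusp_star] at h2
      exact h2.symm
    obtain ⟨i, hi, h2⟩ := (cusp_eq_iff (V := Fin k → K) (powTheta θ (q + 1) ha)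
      (conjTheta (powTheta θ ((q + 1) * q) hb))
      (by rw [Module.finrank_fin_fun, hL]) (by rw [hL]; exact hR)).1 h1
    rw [hL] at hi
    have h3 := (conj_powTheta_eq_iff hθ ha hb (pow_ne_zero i (Nat.card_pos (α := K)).ne')).1 h2
    rw [hcardL, hq] at h3
    exact size_dual hq2 hk hi h3
  · intro z hz
    have h1 := psi_scalar (powTheta θ (q + 1) ha) hL z 1
    rw [mul_one] at h1
    rw [h1, powTheta_eq_one ha, one_mul]
    rw [← map_pow, ← Units.val_pow_eq_pow_val, hz, Units.val_one, map_one]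
  · rw [psi_one L _ hk0, degP_eq_Ico]

end Cfsg.Agent.H345.CusU
end

-- part: H113/PSU/Levi
section
set_option linter.all false
open scoped Cfsg.Agent.FastGrp

/-!
# The characters of `PSU_n(q)` induced from the stabiliser of a maximal totally isotropic subspace (helper113)

`uu q i = q^i - (-1)^i`. `levi_char` : with a cuspidal datum of `GL_k(q²)`, `k = n / 2`, an irreducible character of
`PSU_n(q)` of degree `e`, `e t = D`, `t ∣ q + 1`, `D` divisible, up to a power of `p`, by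
`∏_{i < n} uu i` (`n` even) or `uu n ∏_{2 ≤ i < n - 1} uu i` (`n` odd).
-/

set_option autoImplicit false
set_option linter.unusedSectionVars false

namespace Cfsg.Agent.H113.PSU.Levi

open Cfsg Cfsg.Agent.LieClassical.HermBasic Cfsg.Agent.LieClassical.HermSiegel Cfsg.Agent.Characters
open Cfsg.Agent.H477.HC Cfsg.Agent.H113.PSU.Descent

universe u

/-- `q^i - (-1)^i` -/
def uu (q i : ℕ) : ℕ := if Even i then q ^ i - 1 else q ^ i + 1

theorem uu_cast {q : ℕ} (hq : 1 ≤ q) (i : ℕ) : (uu q i : ℤ) = (q : ℤ) ^ i - (-1) ^ i := by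
  unfold uu
  have h1 : 1 ≤ q ^ i := Nat.one_le_pow _ _ hq
  split_ifs with h
  · rw [h.neg_one_pow]; push_cast [Nat.cast_sub h1]; ring
  · rw [(Nat.not_even_iff_odd.1 h).neg_one_pow]; push_cast; ring

theorem uu_pos {q : ℕ} (hq : 2 ≤ q) {i : ℕ} (hi : 1 ≤ i) : 0 < uu q i := by
  unfold uu
  have h1 : 2 ^ i ≤ q ^ i := Nat.pow_le_pow_left hq i
  have h2 : 2 ^ 1 ≤ 2 ^ i := Nat.pow_le_pow_right (by norm_num) hi
  split_ifs <;> omega

variable {F : Type u} [Field F] [Fintype F] {q : ℕ}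

theorem card_iso (hq : Nat.card F = q ^ 2) (n : ℕ) : Nat.card (CForm.hermF F hq n).iso =
    q ^ (n * (n - 1) / 2) * ∏ i ∈ Finset.range n, uu q (i + 1) := by
  rw [← Nat.card_congr (isoGU hq n).toEquiv, Cfsg.Agent.S0277.result (by rw [← Nat.card_eq_fintype_card, hq]) n]
  congr 1
  refine Finset.prod_congr rfl fun i _ => ?_
  unfold uu
  by_cases h : Even i
  · rw [if_pos h, if_neg (by rw [Nat.even_add_one, not_not]; exact h)]
  · rw [if_neg h, if_pos (by rw [Nat.even_add_one]; exact h)]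

/-- the character of `GU` -/
theorem gu_char (hq : Nat.card F = q ^ 2) {k n' : ℕ} {c : GL (Fin k) F → ℂ}
    (hc : Cus F k (CForm.powHom hq) (fun z => z ^ (q + 1) = 1) c) :
    ∃ χ : GU (k + (k + n')) F q → ℂ, IsIrrCharacter _ χ ∧
      χ 1 = (dg (CForm.hermF F hq (k + (k + n'))) k : ℂ) ∧
      ∀ (z : GU (k + (k + n')) F q) (c : F), c * c ^ q = 1 →
      (∀ v, ((z : GL (Fin (k + (k + n'))) F) : Matrix (Fin (k + (k + n'))) (Fin (k + (k + n'))) F).mulVec v = c • v) →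
        χ z = χ 1 := by
  classical
  obtain ⟨p, hp⟩ := CharP.exists F
  have hpr : p.Prime := (CharP.char_is_prime_or_zero F p).resolve_right (CharP.char_ne_zero_of_finite F p)
  have : Fact p.Prime := ⟨hpr⟩
  obtain ⟨⟨W₀, hW₀⟩, -⟩ := CForm.hermF_frame (K := F) (p := p) hq k n'
  obtain ⟨χ, hχ, hχ1, hχz⟩ := exists_char (CForm.hermF F hq (k + (k + n'))) hW₀
    (Z := fun z => z ^ (q + 1) = 1) (c := c) hc
  refine ⟨χ ∘ (isoGU hq (k + (k + n'))).toMonoidHom,
    Core.isIrr_comp (isoGU hq (k + (k + n'))).toMonoidHom (isoGU hq (k + (k + n'))).surjective hχ, ?_, ?_⟩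
  · change χ (isoGU hq (k + (k + n')) 1) = _
    rw [map_one, hχ1]
  · intro z c hc hz
    change χ (isoGU hq (k + (k + n')) z) = χ (isoGU hq (k + (k + n')) 1)
    rw [map_one]
    have hc0 : c ≠ 0 := by rintro rfl; rw [zero_mul] at hc; exact zero_ne_one hc
    refine hχz _ (Units.mk0 c hc0) ?_ fun v => ?_
    · apply Units.ext
      rw [Units.val_pow_eq_pow_val, Units.val_mk0, Units.val_one, pow_succ', hc]
    · rw [isoGU_apply, hz v, Units.val_mk0]

/-- the divisibility -/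
theorem dvd_dg (hq : Nat.card F = q ^ 2) {p : ℕ} [Fact p.Prime] [CharP F p] {k n' : ℕ} (hk : 0 < k) :
    ∃ e, ∏ i ∈ Finset.Ico n' (k + (k + n')), uu q (i + 1) ∣
      p ^ e * (dg (CForm.hermF F hq (k + (k + n'))) k * (q ^ (2 * k) - 1)) := by
  obtain ⟨-, h⟩ := CForm.hermF_frame (K := F) (p := p) hq k n'
  have := finite_iso (CForm.hermF F hq n')
  have h1 := key_dvd (M := ∏ i ∈ Finset.Ico n' (k + (k + n')), uu q (i + 1)) hk h (y := n' * (n' - 1) / 2) (by
    rw [card_iso, card_iso, ← Finset.prod_range_mul_prod_Ico _ (by omega : n' ≤ k + (k + n')), hq]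
    refine ⟨q ^ (n' * (n' - 1) / 2) * q ^ ((k + (k + n')) * (k + (k + n') - 1) / 2), ?_⟩
    rw [← pow_mul]
    have : q ^ (2 * (n' * (n' - 1) / 2)) = q ^ (n' * (n' - 1) / 2) * q ^ (n' * (n' - 1) / 2) := by
      rw [two_mul, pow_add]
    rw [this]
    ring)
  rw [hq, ← pow_mul] at h1
  exact h1

/-- `n = 2k` -/
theorem dvd_even (hq : Nat.card F = q ^ 2) {p : ℕ} [Fact p.Prime] [CharP F p] {k : ℕ} (hk : 0 < k) :
    ∃ e, ∏ i ∈ Finset.range (2 * k - 1), uu q (i + 1) ∣ p ^ e * dg (CForm.hermF F hq (k + (k + 0))) k := by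
  obtain ⟨e, he⟩ := dvd_dg hq (p := p) (k := k) (n' := 0) hk
  refine ⟨e, ?_⟩
  have hq2 : 2 ≤ q := CForm.two_le_of_card hq
  have h1 : 1 < q ^ (2 * k) := Nat.one_lt_pow (by omega) (by omega)
  apply Nat.dvd_of_mul_dvd_mul_right (k := q ^ (2 * k) - 1) (by omega)
  rw [mul_assoc]
  refine (dvd_of_eq ?_).trans he
  rw [Nat.Ico_zero_eq_range]
  have h2 : k + (k + 0) = (2 * k - 1) + 1 := by omega
  rw [h2, Finset.prod_range_succ]
  congr 1
  have h3 : 2 * k - 1 + 1 = 2 * k := by omega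
  rw [h3]
  unfold uu
  rw [if_pos (even_two_mul k)]

/-- `n = 2k + 1` -/
theorem dvd_odd (hq : Nat.card F = q ^ 2) {p : ℕ} [Fact p.Prime] [CharP F p] {k : ℕ} (hk : 0 < k) :
    ∃ e, (∏ i ∈ Finset.Ico 1 (2 * k - 1), uu q (i + 1)) * uu q (2 * k + 1) ∣
      p ^ e * dg (CForm.hermF F hq (k + (k + 1))) k := by
  obtain ⟨e, he⟩ := dvd_dg hq (p := p) (k := k) (n' := 1) hk
  refine ⟨e, ?_⟩
  have hq2 : 2 ≤ q := CForm.two_le_of_card hq
  have h1 : 1 < q ^ (2 * k) := Nat.one_lt_pow (by omega) (by omega)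
  apply Nat.dvd_of_mul_dvd_mul_right (k := q ^ (2 * k) - 1) (by omega)
  rw [mul_assoc (p ^ e)]
  refine (dvd_of_eq ?_).trans he
  have h2 : k + (k + 1) = (2 * k - 1) + 1 + 1 := by omega
  rw [h2, Finset.prod_Ico_succ_top (by omega), Finset.prod_Ico_succ_top (by omega)]
  have h3 : 2 * k - 1 + 1 = 2 * k := by omega
  rw [h3]
  have h4 : uu q (2 * k) = q ^ (2 * k) - 1 := by
    unfold uu
    rw [if_pos (even_two_mul k)]
  rw [h4]
  ring

/-- the product attached to `n` -/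
def AA (q n : ℕ) : ℕ :=
  if Even n then ∏ i ∈ Finset.range (n - 1), uu q (i + 1)
  else (∏ i ∈ Finset.Ico 1 (n - 2), uu q (i + 1)) * uu q n

/-- cuspidal data exist -/
def HasCusU (F : Type u) [Field F] [Fintype F] (q : ℕ) : Prop :=
  ∀ (hq : Nat.card F = q ^ 2) (k : ℕ), 2 ≤ k →
    ∃ c : GL (Fin k) F → ℂ, Cus F k (CForm.powHom hq) (fun z => z ^ (q + 1) = 1) c

/-- **the Levi characters of `PSU_n(q)`** -/
theorem levi_char (hF : Fintype.card F = q ^ 2) (hC : HasCusU F q) {p : ℕ} [Fact p.Prime] [CharP F p] {n : ℕ}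
    (hn : 4 ≤ n) :
    ∃ (η : PSU n F q → ℂ) (e t a : ℕ), IsIrrCharacter _ η ∧ η 1 = e ∧ t ∣ q + 1 ∧ AA q n ∣ p ^ a * (e * t) := by
  classical
  have hq : Nat.card F = q ^ 2 := by rw [Nat.card_eq_fintype_card, hF]
  rcases Nat.even_or_odd' n with ⟨k, hk | hk⟩
  · obtain ⟨c, hc⟩ := hC hq k (by omega)
    have h2 : n = k + (k + 0) := by omega
    obtain ⟨a, ha⟩ := dvd_even hq (p := p) (k := k) (by omega)
    subst h2
    obtain ⟨χ, hχ, hχ1, hχz⟩ := gu_char (n' := 0) hq hc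
    obtain ⟨η, e, hη, he, he0, hed, hdt⟩ := exists_psu hF (by omega) hχ hχ1 hχz
    refine ⟨η, e, _, a, hη, he, hdt, ?_⟩
    rw [Nat.mul_div_cancel' hed]
    unfold AA
    rw [if_pos ⟨k, by omega⟩]
    have h3 : k + (k + 0) - 1 = 2 * k - 1 := by omega
    rw [h3]
    exact ha
  · obtain ⟨c, hc⟩ := hC hq k (by omega)
    have h2 : n = k + (k + 1) := by omega
    obtain ⟨a, ha⟩ := dvd_odd hq (p := p) (k := k) (by omega)
    subst h2
    obtain ⟨χ, hχ, hχ1, hχz⟩ := gu_char (n' := 1) hq hc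
    obtain ⟨η, e, hη, he, he0, hed, hdt⟩ := exists_psu hF (by omega) hχ hχ1 hχz
    refine ⟨η, e, _, a, hη, he, hdt, ?_⟩
    rw [Nat.mul_div_cancel' hed]
    unfold AA
    rw [if_neg (Nat.not_even_iff_odd.2 ⟨k, by omega⟩)]
    have h3 : k + (k + 1) - 2 = 2 * k - 1 := by omega
    have h4 : k + (k + 1) = 2 * k + 1 := by omega
    rw [h3]
    rw [show uu q (k + (k + 1)) = uu q (2 * k + 1) from by rw [h4]]
    exact ha

end Cfsg.Agent.H113.PSU.Levi
end

-- part: H113/PSU/Facts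
section
prune_inst 0x20454000000000040012100000054000010000200001000005020008032005402900080014000848220000010000000000d0000000000000000000000000002a000001000304280000801084000000000000000000000000000000000004000000000
set_option linter.all false
open scoped Cfsg.Agent.FastGrp

/-!
# The degree graph of `PSU_n(q)`, `n ≥ 4` (helper113)

`exA` : the Levi character (all primes dividing `uu q i`, `i ∈ idx n`); `exG`, `exPhi` : the rank 3 characters;
`im`, `conn`, `indep`, `tri`, `four`.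
-/

set_option autoImplicit false
set_option linter.unusedSectionVars false

namespace Cfsg.Agent.H113.PSU.Facts

open Cfsg Cfsg.Agent.H671.H5 Cfsg.Agent.H113.PSU.Levi Cfsg.Agent.H113.PSU.Chars
open Cfsg.Agent.H113.PSL.Facts (adj_of mem_of reach)

universe u

section Arith

variable {q n : ℕ}

theorem succ_dvd_uu (hq : 1 ≤ q) (i : ℕ) : q + 1 ∣ uu q i := by
  have h := sub_dvd_pow_sub_pow (q : ℤ) (-1) i
  rw [← uu_cast hq] at h
  have h2 : ((q + 1 : ℕ) : ℤ) ∣ (uu q i : ℤ) := by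
    have : ((q + 1 : ℕ) : ℤ) = (q : ℤ) - (-1) := by push_cast; ring
    rw [this]
    exact h
  exact_mod_cast h2

/-- the indices of the Levi character -/
def idx (n : ℕ) : Finset ℕ := if Even n then Finset.Ico 1 n else insert n (Finset.Ico 2 (n - 1))

/-- the missing index -/
def exn (n : ℕ) : ℕ := if Even n then n else n - 1

theorem AA_eq (hn : 4 ≤ n) : AA q n = ∏ i ∈ idx n, uu q i := by
  unfold AA idx
  split_ifs with h
  · rw [Finset.prod_Ico_eq_prod_range]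
    exact Finset.prod_congr rfl fun i _ => by rw [add_comm]
  · rw [Finset.prod_insert (by rw [Finset.mem_Ico]; omega), mul_comm]
    congr 1
    rw [Finset.prod_Ico_add' (fun i => uu q i) 1 (n - 2) 1]
    have h5 : n - 2 + 1 = n - 1 := by omega
    rw [h5]

theorem mem_idx (hn : 4 ≤ n) {i : ℕ} (h1 : 1 ≤ i) (h2 : i ≤ n) (h3 : i ≠ exn n) (h4 : i = 1 → Even n) : i ∈ idx n := by
  unfold idx
  unfold exn at h3
  split_ifs at h3 ⊢ with h
  · rw [Finset.mem_Ico]; omega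
  · rw [Finset.mem_insert, Finset.mem_Ico]
    have : i ≠ 1 := fun h5 => h (h4 h5)
    omega

theorem two_mem_idx (hn : 4 ≤ n) : 2 ∈ idx n := by
  refine mem_idx hn (by omega) (by omega) ?_ (by omega)
  unfold exn
  split_ifs <;> omega

theorem idx_le (hn : 4 ≤ n) {i : ℕ} (hi : i ∈ idx n) : 1 ≤ i ∧ i ≤ n := by
  unfold idx at hi
  split_ifs at hi with h
  · rw [Finset.mem_Ico] at hi; omega
  · rw [Finset.mem_insert, Finset.mem_Ico] at hi; omega

/-- three indices -/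
theorem three_idx (hn : 4 ≤ n) : ∃ a b c, a ∈ idx n ∧ b ∈ idx n ∧ c ∈ idx n ∧ a ≠ b ∧ b ≠ c ∧ a ≠ c := by
  by_cases h : Even n
  · refine ⟨1, 2, 3, ?_, two_mem_idx hn, ?_, by omega, by omega, by omega⟩
    · exact mem_idx hn (by omega) (by omega) (by unfold exn; rw [if_pos h]; omega) (fun _ => h)
    · exact mem_idx hn (by omega) (by omega) (by unfold exn; rw [if_pos h]; omega) (fun _ => h)
  · have h5 : n ≠ 4 := by rintro rfl; exact h (by decide)
    refine ⟨2, 3, n, two_mem_idx hn, ?_, ?_, by omega, by omega, by omega⟩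
    · exact mem_idx hn (by omega) (by omega) (by unfold exn; rw [if_neg h]; omega) (fun h => by omega)
    · exact mem_idx hn (by omega) (by omega) (by unfold exn; rw [if_neg h]; omega) (fun h => by omega)

theorem mul_dvd_AA (hn : 4 ≤ n) {i j : ℕ} (hi : i ∈ idx n) (hj : j ∈ idx n) (hij : i ≠ j) :
    uu q i * uu q j ∣ AA q n := by
  rw [AA_eq hn, ← Finset.mul_prod_erase _ _ hi]
  exact Nat.mul_dvd_mul_left _ (Finset.dvd_prod_of_mem _ (Finset.mem_erase.2 ⟨hij.symm, hj⟩))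

theorem prime_mul_dvd_AA (hq : 1 ≤ q) (hn : 4 ≤ n) {r i : ℕ} (hi : i ∈ idx n) (hr : r ∣ uu q i) :
    r * (q + 1) ∣ AA q n := by
  obtain ⟨a, b, -, ha, hb, -, hab, -⟩ := three_idx hn
  by_cases h : i = a
  · subst h
    exact (Nat.mul_dvd_mul hr (succ_dvd_uu hq b)).trans (mul_dvd_AA hn hi hb hab)
  · exact (Nat.mul_dvd_mul hr (succ_dvd_uu hq a)).trans (mul_dvd_AA hn hi ha h)

theorem cube_dvd_AA (hq : 1 ≤ q) (hn : 4 ≤ n) : (q + 1) * (q + 1) * (q + 1) ∣ AA q n := by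
  obtain ⟨a, b, c, ha, hb, hc, hab, hbc, hac⟩ := three_idx hn
  rw [AA_eq hn, ← Finset.mul_prod_erase _ _ ha, ← Finset.mul_prod_erase _ _ (Finset.mem_erase.2 ⟨hab.symm, hb⟩), mul_assoc]
  refine Nat.mul_dvd_mul (succ_dvd_uu hq a) (Nat.mul_dvd_mul (succ_dvd_uu hq b) ((succ_dvd_uu hq c).trans ?_))
  exact Finset.dvd_prod_of_mem _ (Finset.mem_erase.2 ⟨hbc.symm, Finset.mem_erase.2 ⟨hac.symm, hc⟩⟩)

/-- cancellation of the index -/
theorem dvd_of_index {p a e t A c : ℕ} (hA : A ∣ p ^ a * (e * t)) (ht : t ∣ q + 1) (ht0 : 0 < t)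
    (hc : c * (q + 1) ∣ A) (hcop : Nat.Coprime c p) : c ∣ e := by
  obtain ⟨s, hs⟩ := ht
  have h1 : c * s * t ∣ (p ^ a * e) * t := by
    have h2 := hc.trans hA
    rw [hs] at h2
    refine (dvd_of_eq ?_).trans (h2.trans (dvd_of_eq ?_)) <;> ring
  have h3 := Nat.dvd_of_mul_dvd_mul_right ht0 h1
  exact (Nat.Coprime.pow_right a hcop).dvd_of_dvd_mul_left ((Dvd.intro _ rfl).trans h3)

theorem exists_prime_ne {N l : ℕ} (hl : l.Prime) (h : ¬ l ^ 2 ∣ N) (hN : l < N) : ∃ r, r.Prime ∧ r ∣ N ∧ r ≠ l := by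
  by_cases h1 : l ∣ N
  · obtain ⟨M, rfl⟩ := h1
    have hM : M ≠ 1 := by rintro rfl; omega
    obtain ⟨r, hr, hrM⟩ := Nat.exists_prime_and_dvd hM
    refine ⟨r, hr, hrM.mul_left _, ?_⟩
    rintro rfl
    apply h
    rw [pow_two]
    exact Nat.mul_dvd_mul_left _ hrM
  · obtain ⟨r, hr, hrM⟩ := Nat.exists_prime_and_dvd (show N ≠ 1 by have := hl.two_le; omega)
    exact ⟨r, hr, hrM, by rintro rfl; exact h1 hrM⟩

/-- `uu i / (q + 1)` -/
theorem exists_w (hq : 1 ≤ q) (i : ℕ) : ∃ w, uu q i = (q + 1) * w := succ_dvd_uu hq i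

theorem sq_sub (hq : 1 ≤ q) : q ^ 2 - 1 = (q - 1) * (q + 1) := by
  obtain ⟨k, rfl⟩ : ∃ k, q = k + 1 := ⟨q - 1, by omega⟩
  rw [Nat.add_sub_cancel]
  have : (k + 1) ^ 2 = k * (k + 1 + 1) + 1 := by ring
  omega

/-- even indices -/
theorem exists_x (hq : 1 ≤ q) {i : ℕ} (hi : Even i) : ∃ x, uu q i = (q ^ 2 - 1) * x := by
  obtain ⟨j, rfl⟩ := hi
  have h1 : uu q (j + j) = (q ^ 2) ^ j - 1 := by
    unfold uu
    rw [if_pos ⟨j, rfl⟩, ← pow_mul, two_mul]
  rw [h1]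
  have := Nat.sub_dvd_pow_sub_pow (q ^ 2) 1 j
  rwa [one_pow] at this

theorem not_dvd_q {r i : ℕ} (hr : r.Prime) (hi : 1 ≤ i) (hq : 1 ≤ q) (h : r ∣ uu q i) : ¬ r ∣ q := by
  intro h1
  have h2 : r ∣ q ^ i := h1.trans (dvd_pow_self _ (by omega))
  unfold uu at h
  split_ifs at h with he
  · have h3 : 1 ≤ q ^ i := Nat.one_le_pow _ _ hq
    have h4 := Nat.dvd_sub h2 h
    have h5 : q ^ i - (q ^ i - 1) = 1 := by omega
    rw [h5] at h4
    exact hr.one_lt.ne' (Nat.dvd_one.1 h4)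
  · exact hr.one_lt.ne' (Nat.dvd_one.1 ((Nat.dvd_add_right h2).1 h))

end Arith

variable {F : Type u} [Field F] [Fintype F] {q n : ℕ}

theorem hasCusU (F : Type u) [Field F] [Fintype F] (q : ℕ) : HasCusU F q :=
  fun hq k hk => Cfsg.Agent.H345.CusU.exists_cusU hq k hk

theorem prime_pow (hF : Fintype.card F = q ^ 2) : ∃ p, p.Prime ∧ CharP F p ∧ ∀ r : ℕ, r.Prime → (r ∣ q ↔ r = p) := by
  obtain ⟨p, hp⟩ := CharP.exists F
  have hpr : p.Prime := (CharP.char_is_prime_or_zero F p).resolve_right (CharP.char_ne_zero_of_finite F p)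
  refine ⟨p, hpr, hp, fun r hr => ?_⟩
  have : Fact p.Prime := ⟨hpr⟩
  obtain ⟨s, hs0, hs⟩ := FiniteField.card F p
  rw [hF] at hs
  constructor
  · intro h
    have h1 : r ∣ p ^ (s : ℕ) := by rw [← hs]; exact h.trans (dvd_pow_self _ two_ne_zero)
    exact (Nat.prime_dvd_prime_iff_eq hr hpr).1 (hr.dvd_of_dvd_pow h1)
  · rintro rfl
    have h1 : r ∣ q ^ 2 := by rw [hs]; exact dvd_pow_self _ s.2.ne'
    exact hr.dvd_of_dvd_pow h1

/-- **the Levi character** -/
theorem exA (hF : Fintype.card F = q ^ 2) (hn : 4 ≤ n) : ∃ φ : IrrCharacter (PSU n F q),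
    (∀ r : ℕ, r.Prime → (∃ i ∈ idx n, r ∣ uu q i) → r ∣ charDegree (φ : PSU n F q → ℂ)) ∧
    (¬ 2 ∣ q → 4 ∣ charDegree (φ : PSU n F q → ℂ)) := by
  obtain ⟨p, hpr, hp, hpq⟩ := prime_pow hF
  have : Fact p.Prime := ⟨hpr⟩
  have hq1 : 1 ≤ q := by have := LieClassical.HermBasic.two_le hF; omega
  obtain ⟨η, e, t, a, hη, he, ht, hA⟩ := levi_char hF (hasCusU F q) (p := p) hn
  have ht0 : 0 < t := Nat.pos_of_dvd_of_pos ht (by omega)
  have hde : charDegree η = e := H670.PSing.charDegree_eq_of he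
  refine ⟨⟨η, hη⟩, fun r hr hri => ?_, fun h2 => ?_⟩
  · change r ∣ charDegree η
    rw [hde]
    obtain ⟨i, hi, hri⟩ := hri
    refine dvd_of_index hA ht ht0 (prime_mul_dvd_AA hq1 hn hi hri) ((Nat.coprime_primes hr hpr).2 ?_)
    rintro rfl
    exact not_dvd_q hr (idx_le hn hi).1 hq1 hri ((hpq _ hr).2 rfl)
  · change 4 ∣ charDegree η
    rw [hde]
    have h3 : 2 ∣ q + 1 := by omega
    refine dvd_of_index hA ht ht0 ((?_ : 4 * (q + 1) ∣ (q + 1) * (q + 1) * (q + 1)).trans (cube_dvd_AA hq1 hn)) ?_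
    · exact Nat.mul_dvd_mul (Nat.mul_dvd_mul h3 h3) dvd_rfl
    · have h4 : Nat.Coprime 2 p := (Nat.coprime_primes Nat.prime_two hpr).2 (by
        rintro rfl
        exact h2 ((hpq 2 Nat.prime_two).2 rfl))
      exact Nat.Coprime.pow_left 2 h4

/-- **the second rank 3 character** -/
theorem exG (hF : Fintype.card F = q ^ 2) (hn : 4 ≤ n) : ∃ φ : IrrCharacter (PSU n F q),
    (q ^ 2 - 1) * (q + 1) * charDegree (φ : PSU n F q → ℂ) = q ^ 3 * uu q (n - 1) * uu q (n - 2) := by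
  have hq2 := LieClassical.HermBasic.two_le hF
  obtain ⟨m, rfl⟩ : ∃ m, n = m + 2 := ⟨n - 2, by omega⟩
  obtain ⟨-, χ, -, g, -, hχ, -, hg, -, h⟩ := exists_chars (F := F) (q := q) (m := m) hF (by omega)
  refine ⟨⟨χ, hχ⟩, ?_⟩
  change _ * charDegree χ = _
  rw [H670.PSing.charDegree_eq_of hg]
  have h1 : 1 ≤ q ^ 2 := Nat.one_le_pow _ _ (by omega)
  have h2 : (((q ^ 2 - 1) * (q + 1) * g : ℕ) : ℤ) = ((q ^ 3 * uu q (m + 2 - 1) * uu q (m + 2 - 2) : ℕ) : ℤ) := by
    have e1 : m + 2 - 1 = m + 1 := by omega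
    have e2 : m + 2 - 2 = m := by omega
    rw [e1, e2]
    push_cast [Nat.cast_sub h1]
    rw [uu_cast (by omega), uu_cast (by omega), h]
    ring
  exact_mod_cast h2

/-- **the first rank 3 character** -/
theorem exF (hF : Fintype.card F = q ^ 2) (hn : 4 ≤ n) : ∃ φ : IrrCharacter (PSU n F q),
    (q ^ 2 - 1) * (q + 1) * charDegree (φ : PSU n F q → ℂ) = q ^ 2 * uu q n * uu q (n - 3) := by
  have hq2 := LieClassical.HermBasic.two_le hF
  obtain ⟨m, rfl⟩ : ∃ m, n = m + 1 + 2 := ⟨n - 3, by omega⟩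
  obtain ⟨χ, -, f, -, hχ, -, hf, -, h, -⟩ := exists_chars (F := F) (q := q) (m := m + 1) hF (by omega)
  refine ⟨⟨χ, hχ⟩, ?_⟩
  change _ * charDegree χ = _
  rw [H670.PSing.charDegree_eq_of hf]
  have h1 : 1 ≤ q ^ 2 := Nat.one_le_pow _ _ (by omega)
  have h2 : (((q ^ 2 - 1) * (q + 1) * f : ℕ) : ℤ) = ((q ^ 2 * uu q (m + 1 + 2) * uu q (m + 1 + 2 - 3) : ℕ) : ℤ) := by
    have e2 : m + 1 + 2 - 3 = m := by omega
    rw [e2]
    push_cast [Nat.cast_sub h1]
    rw [uu_cast (by omega), uu_cast (by omega), h]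
    have e3 : m + 1 - 1 = m := by omega
    rw [e3]
    ring
  exact_mod_cast h2

/-- cancellation for `exG` and `exF` -/
theorem cancel (hq2 : 2 ≤ q) {k a b D : ℕ} (ha : Even a) (h : (q ^ 2 - 1) * (q + 1) * D = q ^ k * uu q a * uu q b) :
    ∃ x w, uu q a = (q ^ 2 - 1) * x ∧ uu q b = (q + 1) * w ∧ D = q ^ k * x * w := by
  obtain ⟨x, hx⟩ := exists_x (q := q) (by omega) ha
  obtain ⟨w, hw⟩ := exists_w (q := q) (by omega) b
  refine ⟨x, w, hx, hw, ?_⟩
  rw [hx, hw] at h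
  have h1 : 0 < (q ^ 2 - 1) * (q + 1) := by
    have : 4 ≤ q ^ 2 := by nlinarith only [hq2]
    apply Nat.mul_pos <;> omega
  apply Nat.eq_of_mul_eq_mul_left h1
  rw [h]
  ring

/-- the shape of the degree of `exG` -/
theorem exG' (hF : Fintype.card F = q ^ 2) (hn : 4 ≤ n) : ∃ (φ : IrrCharacter (PSU n F q)) (o a x w : ℕ),
    Odd o ∧ Even a ∧ 3 ≤ o ∧ n ≤ a + 2 ∧ (a = o + 1 ∨ o = a + 1) ∧ o ∈ idx n ∧ (¬ Even n → a = n - 1) ∧
    uu q a = (q ^ 2 - 1) * x ∧ uu q o = (q + 1) * w ∧ charDegree (φ : PSU n F q → ℂ) = q ^ 3 * x * w := by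
  have hq2 := LieClassical.HermBasic.two_le hF
  obtain ⟨φ, hφ⟩ := exG (F := F) hF hn
  by_cases h : Even n
  · have h1 : Even (n - 2) := by
      obtain ⟨k, hk⟩ := h; exact ⟨k - 1, by omega⟩
    obtain ⟨x, w, hx, hw, hD⟩ := cancel hq2 (a := n - 2) (b := n - 1) (k := 3) h1 (by rw [hφ]; ring)
    refine ⟨φ, n - 1, n - 2, x, w, ?_, h1, by omega, by omega, Or.inr (by omega), ?_, fun h' => absurd h h', hx, hw, hD⟩
    · obtain ⟨k, hk⟩ := h; exact ⟨k - 1, by omega⟩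
    · exact mem_idx hn (by omega) (by omega) (by unfold exn; rw [if_pos h]; omega) (fun _ => h)
  · have hodd := Nat.not_even_iff_odd.1 h
    have h1 : Even (n - 1) := by
      obtain ⟨k, hk⟩ := hodd; exact ⟨k, by omega⟩
    have hn5 : 5 ≤ n := by
      obtain ⟨k, hk⟩ := hodd; omega
    obtain ⟨x, w, hx, hw, hD⟩ := cancel hq2 (a := n - 1) (b := n - 2) (k := 3) h1 (by rw [hφ])
    refine ⟨φ, n - 2, n - 1, x, w, ?_, h1, by omega, by omega, Or.inl (by omega), ?_, fun _ => rfl, hx, hw, hD⟩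
    · obtain ⟨k, hk⟩ := hodd; exact ⟨k - 1, by omega⟩
    · exact mem_idx hn (by omega) (by omega) (by unfold exn; rw [if_neg h]; omega) (fun h => by omega)

/-- **the character which contains `p` and the primes missing in `exA`** -/
theorem exPhi (hF : Fintype.card F = q ^ 2) (hn : 4 ≤ n) : ∃ φ : IrrCharacter (PSU n F q),
    (∀ r : ℕ, r.Prime → r ∣ q → r ∣ charDegree (φ : PSU n F q → ℂ)) ∧
    (∀ r : ℕ, r.Prime → ¬ r ∣ q ^ 2 - 1 → r ∣ uu q (exn n) → r ∣ charDegree (φ : PSU n F q → ℂ)) := by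
  have hq2 := LieClassical.HermBasic.two_le hF
  by_cases h : Even n
  · obtain ⟨φ, hφ⟩ := exF (F := F) hF hn
    obtain ⟨x, w, hx, hw, hD⟩ := cancel hq2 (a := n) (b := n - 3) (k := 2) h hφ
    refine ⟨φ, fun r hr hrq => ?_, fun r hr h1 h2 => ?_⟩
    · rw [hD]
      exact ((hrq.trans (dvd_pow_self _ two_ne_zero)).mul_right _).mul_right _
    · unfold exn at h2
      rw [if_pos h, hx] at h2
      rw [hD]
      exact (((hr.dvd_mul.1 h2).resolve_left h1).mul_left _).mul_right _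
  · obtain ⟨φ, o, a, x, w, -, -, -, -, -, -, ha, hx, -, hD⟩ := exG' (F := F) hF hn
    have ha := ha h
    subst ha
    refine ⟨φ, fun r hr hrq => ?_, fun r hr h1 h2 => ?_⟩
    · rw [hD]
      exact ((hrq.trans (dvd_pow_self _ three_ne_zero)).mul_right _).mul_right _
    · unfold exn at h2
      rw [if_neg h, hx] at h2
      rw [hD]
      exact (((hr.dvd_mul.1 h2).resolve_left h1).mul_left _).mul_right _

/-- the primes -/
theorem cover (hF : Fintype.card F = q ^ 2) (hn : 4 ≤ n) {r : ℕ} (hr : r.Prime) (h : r ∣ Nat.card (PSU n F q)) :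
    r ∣ q ∨ (∃ i ∈ idx n, r ∣ uu q i) ∨ (¬ r ∣ q ^ 2 - 1 ∧ r ∣ uu q (exn n)) := by
  have hq2 := LieClassical.HermBasic.two_le hF
  have h1 := Cfsg.Agent.S0280.result hF n (by omega)
  have h2 : r ∣ q ^ (n * (n - 1) / 2) * ∏ i ∈ Finset.range n, (if Even i then q ^ (i + 1) + 1 else q ^ (i + 1) - 1) := by
    rw [← h1]
    exact (h.mul_left _).mul_left _
  rcases hr.dvd_mul.1 h2 with h3 | h3
  · exact Or.inl (hr.dvd_of_dvd_pow h3)
  obtain ⟨i, hi, hi'⟩ := (Prime.dvd_finsetProd_iff hr.prime _).1 h3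
  rw [Finset.mem_range] at hi
  have h4 : r ∣ uu q (i + 1) := by
    unfold uu
    by_cases h : Even i
    · rw [if_pos h] at hi'
      rwa [if_neg (by rw [Nat.even_add_one, not_not]; exact h)]
    · rw [if_neg h] at hi'
      rwa [if_pos (by rw [Nat.even_add_one]; exact h)]
  by_cases h5 : i + 1 = exn n
  · by_cases h6 : r ∣ q ^ 2 - 1
    · refine Or.inr (Or.inl ⟨2, two_mem_idx hn, ?_⟩)
      unfold uu
      rwa [if_pos (by decide)]
    · exact Or.inr (Or.inr ⟨h6, by rwa [← h5]⟩)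
  · by_cases h6 : i = 0
    · subst h6
      have h7 : uu q (0 + 1) = q + 1 := by unfold uu; simp only [_root_.zero_add, _root_.Nat.not_even_one, ↓ _root_.reduceIte, _root_.pow_one, _root_.Nat.add_left_cancel_iff]
      rw [h7] at h4
      exact Or.inr (Or.inl ⟨2, two_mem_idx hn, h4.trans (succ_dvd_uu (by omega) 2)⟩)
    · exact Or.inr (Or.inl ⟨i + 1, mem_idx hn (by omega) (by omega) h5 (fun h => by omega), h4⟩)

/-- **Itô-Michler** -/
theorem im (hF : Fintype.card F = q ^ 2) (hn : 4 ≤ n) {r : ℕ} (hr : r.Prime) (h : r ∣ Nat.card (PSU n F q)) :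
    Cfsg.Agent.H33.IM r (PSU n F q) := by
  obtain ⟨φA, hφA, -⟩ := exA (F := F) hF hn
  obtain ⟨φ, h1, h2⟩ := exPhi (F := F) hF hn
  rcases cover hF hn hr h with h3 | h3 | ⟨h3, h4⟩
  · exact ⟨φ, h1 r hr h3⟩
  · exact ⟨φA, hφA r hr h3⟩
  · exact ⟨φ, h2 r hr h3 h4⟩

theorem cover' (hF : Fintype.card F = q ^ 2) (hn : 4 ≤ n) {r : ℕ} (h : r ∈ degreePrimes (PSU n F q)) :
    r.Prime ∧ (r ∣ q ∨ (∃ i ∈ idx n, r ∣ uu q i) ∨ (¬ r ∣ q ^ 2 - 1 ∧ r ∣ uu q (exn n))) := by
  obtain ⟨hr, d, ⟨χ, rfl⟩, hd⟩ := h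
  exact ⟨hr, cover hF hn hr (hd.trans (Blocks.Knorr.charDegree_dvd χ.2))⟩

/-- **Among three primes two are adjacent.** -/
theorem indep (hF : Fintype.card F = q ^ 2) (hn : 4 ≤ n) {r s t : ℕ} (hr : r ∈ degreePrimes (PSU n F q))
    (hs : s ∈ degreePrimes (PSU n F q)) (ht : t ∈ degreePrimes (PSU n F q)) (hrs : r ≠ s) (hst : s ≠ t) (hrt : r ≠ t) :
    Adj r s (PSU n F q) ∨ Adj s t (PSU n F q) ∨ Adj r t (PSU n F q) := by
  obtain ⟨φA, hφA, -⟩ := exA (F := F) hF hn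
  obtain ⟨φ, h1, h2⟩ := exPhi (F := F) hF hn
  have key : ∀ {x : ℕ}, x ∈ degreePrimes (PSU n F q) →
      x ∣ charDegree (φA : PSU n F q → ℂ) ∨ x ∣ charDegree (φ : PSU n F q → ℂ) := by
    intro x hx
    obtain ⟨px, h3 | h3 | ⟨h3, h4⟩⟩ := cover' hF hn hx
    · exact Or.inr (h1 x px h3)
    · exact Or.inl (hφA x px h3)
    · exact Or.inr (h2 x px h3 h4)
  rcases key hr with a | a <;> rcases key hs with b | b <;> rcases key ht with c | c
  · exact Or.inl (adj_of hr.1 hs.1 hrs a b)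
  · exact Or.inl (adj_of hr.1 hs.1 hrs a b)
  · exact Or.inr (Or.inr (adj_of hr.1 ht.1 hrt a c))
  · exact Or.inr (Or.inl (adj_of hs.1 ht.1 hst b c))
  · exact Or.inr (Or.inl (adj_of hs.1 ht.1 hst b c))
  · exact Or.inr (Or.inr (adj_of hr.1 ht.1 hrt a c))
  · exact Or.inl (adj_of hr.1 hs.1 hrs a b)
  · exact Or.inl (adj_of hr.1 hs.1 hrs a b)

theorem one_lt_w (hq2 : 2 ≤ q) {o w : ℕ} (ho : Odd o) (h3 : 3 ≤ o) (hw : uu q o = (q + 1) * w) : w ≠ 1 := by
  rintro rfl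
  have h1 : uu q o = q ^ o + 1 := by
    unfold uu
    rw [if_neg (Nat.not_even_iff_odd.2 ho)]
  have h2 : q ^ 3 ≤ q ^ o := Nat.pow_le_pow_right (by omega) h3
  have h4 : q ^ 3 = q * (q * q) := by ring
  have h5 : 4 ≤ q * q := by nlinarith only [hq2]
  nlinarith only [hw, h1, h2, h5]

/-- **The degree graph is connected.** -/
theorem conn (hF : Fintype.card F = q ^ 2) (hn : 4 ≤ n) :
    ((degreeGraph (PSU n F q)).induce (degreePrimes (PSU n F q))).Connected := by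
  have hq2 := LieClassical.HermBasic.two_le hF
  obtain ⟨φA, hφA, -⟩ := exA (F := F) hF hn
  obtain ⟨φ, h1, h2⟩ := exPhi (F := F) hF hn
  obtain ⟨φG, o, a, x, w, ho, -, ho3, -, -, hoi, -, -, hw, hG⟩ := exG' (F := F) hF hn
  obtain ⟨r₀, pr₀, hr₀⟩ := Nat.exists_prime_and_dvd (one_lt_w hq2 ho ho3 hw)
  have hr₀A : r₀ ∣ charDegree (φA : PSU n F q → ℂ) := hφA r₀ pr₀ ⟨o, hoi, by rw [hw]; exact hr₀.mul_left _⟩
  have hr₀G : r₀ ∣ charDegree (φG : PSU n F q → ℂ) := by rw [hG]; exact hr₀.mul_left _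
  obtain ⟨p₀, pp₀, hp₀⟩ := Nat.exists_prime_and_dvd (show q ≠ 1 by omega)
  have hGq : ∀ v : ℕ, v ∣ q → v ∣ charDegree (φG : PSU n F q → ℂ) := fun v hv => by
    rw [hG]; exact ((hv.trans (dvd_pow_self _ three_ne_zero)).mul_right _).mul_right _
  let c₀ : degreePrimes (PSU n F q) := ⟨r₀, mem_of pr₀ hr₀A⟩
  let d₀ : degreePrimes (PSU n F q) := ⟨p₀, mem_of pp₀ (hGq p₀ hp₀)⟩
  have key : ∀ v : degreePrimes (PSU n F q),
      ((degreeGraph (PSU n F q)).induce (degreePrimes (PSU n F q))).Reachable v c₀ := by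
    intro v
    obtain ⟨hv, h3 | h3 | ⟨h3, h4⟩⟩ := cover' hF hn v.2
    · exact reach v c₀ (hGq _ h3) hr₀G
    · exact reach v c₀ (hφA _ hv h3) hr₀A
    · exact (reach v d₀ (h2 _ hv h3 h4) (h1 _ pp₀ hp₀)).trans (reach d₀ c₀ (hGq _ hp₀) hr₀G)
  have : Nonempty (degreePrimes (PSU n F q)) := ⟨c₀⟩
  exact ⟨fun v w => (key v).trans (key w).symm⟩

/-- consecutive `w` are coprime -/
theorem coprime_w (hq : 1 ≤ q) {i w w' : ℕ} (hw : uu q i = (q + 1) * w) (hw' : uu q (i + 1) = (q + 1) * w') :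
    Nat.Coprime w w' := by
  have h1 : ((q : ℤ) + 1) * w = (q : ℤ) ^ i - (-1) ^ i := by
    rw [← uu_cast hq, hw]; push_cast; ring
  have h2 : ((q : ℤ) + 1) * w' = (q : ℤ) ^ (i + 1) - (-1) ^ (i + 1) := by
    rw [← uu_cast hq, hw']; push_cast; ring
  have h3 : (w' : ℤ) = q * w + (-1) ^ i := by
    have h4 : ((q : ℤ) + 1) ≠ 0 := by positivity
    apply mul_left_cancel₀ h4
    rw [h2, pow_succ, pow_succ]
    linear_combination (-(q : ℤ)) * h1
  rw [← Nat.isCoprime_iff_coprime]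
  have h5 : ((-1 : ℤ) ^ i) * (-1) ^ i = 1 := by rw [← mul_pow]; simp
  refine ⟨-(q : ℤ) * (-1) ^ i, (-1) ^ i, ?_⟩
  rw [h3]
  linear_combination h5

/-- **A triangle, `n ≥ 5`.** -/
theorem tri_five (hF : Fintype.card F = q ^ 2) (hn : 5 ≤ n) :
    ∃ a b c : ℕ, Adj a b (PSU n F q) ∧ Adj b c (PSU n F q) ∧ Adj a c (PSU n F q) := by
  have hq2 := LieClassical.HermBasic.two_le hF
  obtain ⟨φG, o, a, x, w, ho, ha, ho3, ha2, hoa, hoi, -, hx, hw, hG⟩ := exG' (F := F) hF (by omega : 4 ≤ n)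
  have ha4 : 4 ≤ a := by
    obtain ⟨k, hk⟩ := ha; omega
  have hx' : uu q a = (q + 1) * ((q - 1) * x) := by rw [hx, sq_sub (by omega)]; ring
  have hcop : Nat.Coprime w ((q - 1) * x) := by
    rcases hoa with h | h
    · subst h; exact coprime_w (by omega) hw hx'
    · subst h; exact (coprime_w (by omega) hx' hw).symm
  have hx1 : x ≠ 1 := by
    rintro rfl
    have h1 : uu q a = q ^ a - 1 := by unfold uu; rw [if_pos ha]
    have h2 : q ^ 3 ≤ q ^ a := Nat.pow_le_pow_right (by omega) (by omega)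
    have h3 : q ^ 3 = q * q ^ 2 := by ring
    have h4 : 4 ≤ q ^ 2 := by nlinarith only [hq2]
    rw [h1, mul_one] at hx
    nlinarith only [hq2, hx, h2, Nat.sub_add_cancel (show 1 ≤ q ^ a by omega), Nat.sub_add_cancel (show 1 ≤ q ^ 2 by omega)]
  obtain ⟨p₀, pp, dp⟩ := Nat.exists_prime_and_dvd (show q ≠ 1 by omega)
  obtain ⟨r, pr, dr⟩ := Nat.exists_prime_and_dvd (one_lt_w hq2 ho ho3 hw)
  obtain ⟨s, ps, ds⟩ := Nat.exists_prime_and_dvd hx1
  have hpr : p₀ ≠ r := by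
    rintro rfl
    exact not_dvd_q (i := o) pp (by omega) (by omega) (by rw [hw]; exact dr.mul_left _) dp
  have hps : p₀ ≠ s := by
    rintro rfl
    exact not_dvd_q (i := a) pp (by omega) (by omega) (by rw [hx]; exact ds.mul_left _) dp
  have hrs : r ≠ s := by
    rintro rfl
    exact Nat.not_coprime_of_dvd_of_dvd pr.one_lt dr (ds.mul_left _) hcop
  have gp : p₀ ∣ charDegree (φG : PSU n F q → ℂ) := by
    rw [hG]; exact ((dp.trans (dvd_pow_self _ three_ne_zero)).mul_right _).mul_right _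
  have gr : r ∣ charDegree (φG : PSU n F q → ℂ) := by rw [hG]; exact dr.mul_left _
  have gs : s ∣ charDegree (φG : PSU n F q → ℂ) := by rw [hG]; exact (ds.mul_left _).mul_right _
  exact ⟨p₀, r, s, adj_of pp pr hpr gp gr, adj_of pr ps hrs gr gs, adj_of pp ps hps gp gs⟩

/-- **A triangle, `n = 4`, `q > 2`.** -/
theorem tri_four (hF : Fintype.card F = q ^ 2) (hq3 : 3 ≤ q) :
    ∃ a b c : ℕ, Adj a b (PSU 4 F q) ∧ Adj b c (PSU 4 F q) ∧ Adj a c (PSU 4 F q) := by
  have hq1 : 1 ≤ q ^ 2 := Nat.one_le_pow _ _ (by omega)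
  by_cases h2 : 2 ∣ q
  · -- `q` even
    obtain ⟨φ, hφ, -⟩ := exA (F := F) hF (le_refl 4)
    have hodd1 : ¬ 2 ∣ q - 1 := by omega
    have hodd2 : ¬ 2 ∣ q + 1 := by omega
    obtain ⟨r, pr, dr⟩ := Nat.exists_prime_and_dvd (show q - 1 ≠ 1 by (clear * - hq3; omega))
    obtain ⟨s, ps, ds⟩ := Nat.exists_prime_and_dvd (show q + 1 ≠ 1 by omega)
    obtain ⟨k, hk⟩ : ∃ k, q = k + 1 := ⟨q - 1, by (clear * - hq3; omega)⟩
    have hN : q ^ 3 + 1 = (q + 1) * (k * q + 1) := by rw [hk]; ring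
    have h9 : ¬ 3 ^ 2 ∣ k * q + 1 := by
      intro h
      have h3 : (k * q + 1) % 9 = 0 := Nat.mod_eq_zero_of_dvd h
      rw [hk] at h3
      have h4 : (k * (k + 1) + 1) % 9 = ((k % 9) * (k % 9 + 1) + 1) % 9 := by
        simp only [Nat.add_mod, Nat.mul_mod, _root_.Nat.one_mod, _root_.dvd_refl, _root_.Nat.mod_mod_of_dvd]
      rw [h4] at h3
      have h5 : k % 9 < 9 := Nat.mod_lt _ (by norm_num)
      interval_cases (k % 9) <;> (clear * - h3; omega)
    obtain ⟨t, pt, dt, ht3⟩ := exists_prime_ne Nat.prime_three h9 (by nlinarith only [hq3, hk])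
    have hrs : r ≠ s := by
      rintro rfl
      have h3 := Nat.dvd_sub ds dr
      have h4 : q + 1 - (q - 1) = 2 := by (clear * - hq3; omega)
      rw [h4] at h3
      have h5 := (Nat.prime_dvd_prime_iff_eq pr Nat.prime_two).1 h3
      rw [h5] at dr
      exact hodd1 dr
    have hrt : r ≠ t := by
      rintro rfl
      have h3 : r ∣ k := by rw [hk, Nat.add_sub_cancel] at dr; exact dr
      exact pr.one_lt.ne' (Nat.dvd_one.1 ((Nat.dvd_add_right (h3.mul_right _)).1 dt))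
    have hst : s ≠ t := by
      rintro rfl
      have h3 : (q + 1) * (k - 1) + 3 = k * q + 1 := by
        obtain ⟨j, hj⟩ : ∃ j, k = j + 1 := ⟨k - 1, by (clear * - hodd2 hk; omega)⟩
        rw [hk, hj, Nat.add_sub_cancel]; ring
      rw [← h3] at dt
      have h4 := (Nat.dvd_add_right (ds.mul_right _)).1 dt
      exact ht3 ((Nat.prime_dvd_prime_iff_eq ps Nat.prime_three).1 h4)
    have i1 : 1 ∈ idx 4 := mem_idx le_rfl (by omega) (by omega) (by decide) (fun _ => by decide)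
    have i2 : 2 ∈ idx 4 := two_mem_idx le_rfl
    have i3 : 3 ∈ idx 4 := mem_idx le_rfl (by omega) (by omega) (by decide) (fun h => by omega)
    have ar := hφ r pr ⟨2, i2, by
      unfold uu
      rw [if_pos (by decide), sq_sub (by omega)]
      exact dr.mul_right _⟩
    have as := hφ s ps ⟨1, i1, by
      unfold uu
      rw [if_neg (by decide), pow_one]
      exact ds⟩
    have at' := hφ t pt ⟨3, i3, by
      unfold uu
      rw [if_neg (by decide), hN]
      exact dt.mul_left _⟩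
    exact ⟨r, s, t, adj_of pr ps hrs ar as, adj_of ps pt hst as at', adj_of pr pt hrt ar at'⟩
  · -- `q` odd
    obtain ⟨φ, hφ⟩ := exF (F := F) hF (le_refl 4)
    obtain ⟨x, w, hx, hw, hD⟩ := cancel (by omega) (a := 4) (b := 4 - 3) (k := 2) (by decide) hφ
    have hx' : x = q ^ 2 + 1 := by
      have h1 : uu q 4 = (q ^ 2 - 1) * (q ^ 2 + 1) := by
        unfold uu
        rw [if_pos (by decide)]
        obtain ⟨j, hj⟩ : ∃ j, q ^ 2 = j + 1 := ⟨q ^ 2 - 1, by omega⟩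
        have h5 : q ^ 4 = (q ^ 2) ^ 2 := by ring
        rw [h5, hj, Nat.add_sub_cancel]
        have : (j + 1) ^ 2 = j * (j + 1 + 1) + 1 := by ring
        omega
      rw [hx] at h1
      have h9 : 9 ≤ q ^ 2 := by nlinarith only [hq3]
      exact Nat.eq_of_mul_eq_mul_left (by omega) h1
    have hm : q % 2 = 1 := by omega
    have h4 : ¬ 2 ^ 2 ∣ q ^ 2 + 1 := by
      intro h
      have h3 : (q ^ 2 + 1) % 4 = 0 := Nat.mod_eq_zero_of_dvd h
      have h5 : (q ^ 2 + 1) % 4 = ((q % 4) ^ 2 + 1) % 4 := by simp [Nat.add_mod, Nat.pow_mod]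
      rw [h5] at h3
      have h6 : q % 4 = 1 ∨ q % 4 = 3 := by (clear * - h2; omega)
      rcases h6 with h6 | h6 <;> rw [h6] at h3 <;> norm_num at h3
    obtain ⟨t, pt, dt, ht2⟩ := exists_prime_ne Nat.prime_two h4 (by nlinarith only [hq3])
    obtain ⟨p₀, pp, dp⟩ := Nat.exists_prime_and_dvd (show q ≠ 1 by omega)
    have hp2 : p₀ ≠ 2 := by rintro rfl; exact h2 dp
    have hpt : p₀ ≠ t := by
      rintro rfl
      exact pp.one_lt.ne' (Nat.dvd_one.1 ((Nat.dvd_add_right (dp.trans (dvd_pow_self _ two_ne_zero))).1 dt))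
    have ap : p₀ ∣ charDegree (φ : PSU 4 F q → ℂ) := by
      rw [hD]; exact ((dp.trans (dvd_pow_self _ two_ne_zero)).mul_right _).mul_right _
    have a2 : 2 ∣ charDegree (φ : PSU 4 F q → ℂ) := by
      rw [hD, hx']
      have h5 : 2 ∣ q ^ 2 + 1 := by
        obtain ⟨j, hj⟩ : ∃ j, q = 2 * j + 1 := ⟨q / 2, by omega⟩
        exact ⟨2 * j ^ 2 + 2 * j + 1, by rw [hj]; ring⟩
      exact (h5.mul_left _).mul_right _
    have at' : t ∣ charDegree (φ : PSU 4 F q → ℂ) := by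
      rw [hD, hx']; exact (dt.mul_left _).mul_right _
    exact ⟨p₀, 2, t, adj_of pp Nat.prime_two hp2 ap a2, adj_of Nat.prime_two pt (Ne.symm ht2) a2 at',
      adj_of pp pt hpt ap at'⟩

/-- **four divides a degree** -/
theorem four (hF : Fintype.card F = q ^ 2) (hn : 4 ≤ n) : ∃ φ : IrrCharacter (PSU n F q),
    4 ∣ charDegree (φ : PSU n F q → ℂ) := by
  have hq2 := LieClassical.HermBasic.two_le hF
  by_cases h2 : 2 ∣ q
  · obtain ⟨φG, o, a, x, w, ho, -, ho3, -, -, hoi, -, -, hw, hG⟩ := exG' (F := F) hF hn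
    refine ⟨φG, ?_⟩
    rw [hG]
    have h3 : 4 ∣ q ^ 3 := by
      have h4 : 2 ^ 2 ∣ q ^ 2 := pow_dvd_pow_of_dvd h2 2
      exact (show 4 ∣ q ^ 2 from h4).trans (pow_dvd_pow q (by omega))
    exact (h3.mul_right _).mul_right _
  · obtain ⟨φA, -, h4⟩ := exA (F := F) hF hn
    exact ⟨φA, h4 h2⟩

end Cfsg.Agent.H113.PSU.Facts
end

-- part: H113/PSU/Main
section
set_option linter.all false
open scoped Cfsg.Agent.FastGrp

/-!
# The facts of hub H5 for `PSU_n(q)`, `n ≥ 4` (helper113)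

`im_of_equiv`, `conn_of_equiv`, `ind_of_equiv`, `tri_of_equiv` (`(n, q) ≠ (4, 2)`), `four_of_equiv`;
`im_psu`, `conn_psu`, `ind_psu`, `four_psu` : for `Cfsg.IsPSU S`, the case `n = 3` as a hypothesis.
-/

set_option autoImplicit false
set_option linter.unusedSectionVars false

namespace Cfsg.Agent.H113.PSU.Main

open Cfsg Cfsg.Agent.H671.H5

universe u

/-- `S` is a `PSU_3(q)` -/
def IsU3 (S : Type u) [Group S] : Prop :=
  ∃ (F : Type) (_ : Field F) (_ : Fintype F) (q : ℕ), Fintype.card F = q ^ 2 ∧ q ≠ 2 ∧ Nonempty (S ≃* PSU 3 F q)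

/-- `S` is a `PSU_n(q)`, `n ≥ 4` -/
def IsUn (S : Type u) [Group S] : Prop :=
  ∃ (F : Type) (_ : Field F) (_ : Fintype F) (n q : ℕ), Fintype.card F = q ^ 2 ∧ 4 ≤ n ∧ Nonempty (S ≃* PSU n F q)

theorem shape {S : Type u} [Group S] (h : IsPSU S) : IsU3 S ∨ IsUn S := by
  obtain ⟨F, i1, i2, n, q, hF, hn, hnq, e⟩ := h
  by_cases h3 : n = 3
  · subst h3
    exact Or.inl ⟨F, i1, i2, q, hF, fun h => hnq ⟨rfl, h⟩, e⟩
  · exact Or.inr ⟨F, i1, i2, n, q, hF, by omega, e⟩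

variable {S : Type u} [Group S]

/-- **Itô-Michler for `PSU_n(q)`, `n ≥ 4`** -/
theorem im_un (h : IsUn S) {p : ℕ} (hp : p.Prime) (hd : p ∣ Nat.card S) : Cfsg.Agent.H33.IM p S := by
  obtain ⟨F, _, _, n, q, hF, hn, ⟨e⟩⟩ := h
  exact (Facts.im hF hn hp (by rwa [← Nat.card_congr e.toEquiv])).of_equiv e

/-- the degree graph is connected -/
theorem conn_un (h : IsUn S) : ((Cfsg.degreeGraph S).induce (Cfsg.degreePrimes S)).Connected := by
  obtain ⟨F, _, _, n, q, hF, hn, ⟨e⟩⟩ := h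
  rw [H424.DegTools.degreeGraph_congr e, H424.DegTools.degreePrimes_congr e]
  exact Facts.conn hF hn

/-- among three vertices two are adjacent -/
theorem ind_un (h : IsUn S) {r s t : ℕ} (hr : r ∈ degreePrimes S) (hs : s ∈ degreePrimes S) (ht : t ∈ degreePrimes S)
    (hrs : r ≠ s) (hst : s ≠ t) (hrt : r ≠ t) : Adj r s S ∨ Adj s t S ∨ Adj r t S := by
  obtain ⟨F, _, _, n, q, hF, hn, ⟨e⟩⟩ := h
  unfold Adj
  rw [H424.DegTools.degreePrimes_congr e] at hr hs ht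
  rw [H424.DegTools.degreeGraph_congr e]
  exact Facts.indep hF hn hr hs ht hrs hst hrt

/-- four divides a degree -/
theorem four_un (h : IsUn S) : ∃ χ : IrrCharacter S, 4 ∣ charDegree (χ : S → ℂ) := by
  obtain ⟨F, _, _, n, q, hF, hn, ⟨e⟩⟩ := h
  obtain ⟨χ, hχ⟩ := Facts.four (F := F) hF hn
  have h1 : charDegree (χ : PSU n F q → ℂ) ∈ charDegrees S := by
    rw [H424.DegTools.charDegrees_congr e]
    exact ⟨χ, rfl⟩
  obtain ⟨ψ, hψ⟩ := h1
  exact ⟨ψ, by rw [hψ]; exact hχ⟩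

/-- a triangle, apart from `PSU_4(2)` -/
theorem tri_of_equiv {F : Type} [Field F] [Fintype F] {n q : ℕ} (hF : Fintype.card F = q ^ 2) (hn : 4 ≤ n)
    (h42 : ¬ (n = 4 ∧ q = 2)) (e : S ≃* PSU n F q) : ∃ r s t : ℕ, Adj r s S ∧ Adj s t S ∧ Adj r t S := by
  unfold Adj
  rw [H424.DegTools.degreeGraph_congr e]
  by_cases h5 : 5 ≤ n
  · exact Facts.tri_five hF h5
  · have h4 : n = 4 := by omega
    subst h4
    have hq2 := LieClassical.HermBasic.two_le hF
    exact Facts.tri_four hF (by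
      by_contra h
      exact h42 ⟨rfl, by omega⟩)

/-- **Itô-Michler for the unitary groups** (`n = 3` as a hypothesis) -/
theorem im_psu (S : Type u) [Group S] [Finite S] (h : Cfsg.IsPSU S) (_hs : IsSimpleGroup S) {p : ℕ}
    [hp : Fact p.Prime] (hd : p ∣ Nat.card S) (h3 : IsU3 S → Cfsg.Agent.H33.IM p S) : Cfsg.Agent.H33.IM p S := by
  rcases shape h with h | h
  · exact h3 h
  · exact im_un h hp.out hd

end Cfsg.Agent.H113.PSU.Main
end
end
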